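import Mathlib

set_option autoImplicit false
universe u
open CategoryTheory AlgebraicGeometry TopologicalSpace

namespace Groth.Agent.H5.CIcrit

variable {X Y : Scheme.{u}}

/-- every prime of the ring of sections of an affine open is the prime of a point. -/
theorem exists_primeIdealOf_eq {U : X.Opens} (hU : IsAffineOpen U)
    (p : PrimeSpectrum Γ(X, U)) : ∃ (x : X) (hx : x ∈ U), hU.primeIdealOf ⟨x, hx⟩ = p := by
  have hx : hU.fromSpec p ∈ (U : Set X) := by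
    rw [← hU.range_fromSpec]; exact ⟨p, rfl⟩
  refine ⟨hU.fromSpec p, hx, ?_⟩
  haveI := hU.isOpenImmersion_fromSpec
  apply hU.fromSpec.isOpenEmbedding.injective
  exact hU.fromSpec_primeIdealOf ⟨hU.fromSpec p, hx⟩

/-- a point of an affine open whose prime is maximal is closed in a Jacobson scheme. -/
theorem isClosed_of_isMaximal_primeIdealOf [JacobsonSpace Y] {V : Y.Opens} (hV : IsAffineOpen V)
    (y : Y) (hy : y ∈ V) (hmax : (hV.primeIdealOf ⟨y, hy⟩).asIdeal.IsMaximal) :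
    IsClosed ({y} : Set Y) := by
  haveI := hV.isOpenImmersion_fromSpec
  have h1 : IsClosed ({hV.primeIdealOf ⟨y, hy⟩} : Set (PrimeSpectrum Γ(Y, V))) :=
    (PrimeSpectrum.isClosed_singleton_iff_isMaximal _).mpr hmax
  have h2 := hV.fromSpec.isOpenEmbedding.preimage_closedPoints
  have h3 : hV.primeIdealOf ⟨y, hy⟩ ∈ hV.fromSpec ⁻¹' closedPoints Y := by
    rw [h2]; exact h1
  have h4 : hV.fromSpec (hV.primeIdealOf ⟨y, hy⟩) ∈ closedPoints Y := h3
  rw [hV.fromSpec_primeIdealOf ⟨y, hy⟩] at h4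
  exact h4

variable (f : X ⟶ Y)

/-- the cotangent condition at a point, translated to an affine chart. -/
theorem exists_mul_mem_of_cotangent {V : Y.Opens} (hV : IsAffineOpen V)
    (hU : IsAffineOpen (f ⁻¹ᵁ V)) (x : X) (hx : x ∈ f ⁻¹ᵁ V)
    (hT : Ideal.map (f.stalkMap x).hom (IsLocalRing.maximalIdeal (Y.presheaf.stalk (f.base x))) ⊔
        IsLocalRing.maximalIdeal (X.presheaf.stalk x) ^ 2 =
      IsLocalRing.maximalIdeal (X.presheaf.stalk x)) :
    ∀ b ∈ (hU.primeIdealOf ⟨x, hx⟩).asIdeal, ∃ s ∉ (hU.primeIdealOf ⟨x, hx⟩).asIdeal,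
      s * b ∈ ((hV.primeIdealOf ⟨f x, hx⟩).asIdeal.map (f.app V).hom) ⊔
        (hU.primeIdealOf ⟨x, hx⟩).asIdeal ^ 2 := by
  set 𝔫 := (hU.primeIdealOf ⟨x, hx⟩).asIdeal with h𝔫
  set 𝔪 := (hV.primeIdealOf ⟨f x, hx⟩).asIdeal with h𝔪
  letI algX : Algebra Γ(X, f ⁻¹ᵁ V) (X.presheaf.stalk x) :=
    X.presheaf.algebra_section_stalk ⟨x, hx⟩
  haveI locX : IsLocalization.AtPrime (X.presheaf.stalk x) 𝔫 := hU.isLocalization_stalk ⟨x, hx⟩
  letI algY : Algebra Γ(Y, V) (Y.presheaf.stalk (f x)) :=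
    Y.presheaf.algebra_section_stalk ⟨f x, hx⟩
  haveI locY : IsLocalization.AtPrime (Y.presheaf.stalk (f x)) 𝔪 :=
    hV.isLocalization_stalk ⟨f x, hx⟩
  have e1 : IsLocalRing.maximalIdeal (X.presheaf.stalk x) =
      Ideal.map (algebraMap Γ(X, f ⁻¹ᵁ V) (X.presheaf.stalk x)) 𝔫 :=
    (IsLocalization.AtPrime.map_eq_maximalIdeal 𝔫 _).symm
  have e2 : IsLocalRing.maximalIdeal (Y.presheaf.stalk (f x)) =
      Ideal.map (algebraMap Γ(Y, V) (Y.presheaf.stalk (f x))) 𝔪 :=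
    (IsLocalization.AtPrime.map_eq_maximalIdeal 𝔪 _).symm
  have e3 : (f.stalkMap x).hom.comp (algebraMap Γ(Y, V) (Y.presheaf.stalk (f x))) =
      (algebraMap Γ(X, f ⁻¹ᵁ V) (X.presheaf.stalk x)).comp (f.app V).hom := by
    ext a
    exact Scheme.Hom.germ_stalkMap_apply f V x hx a
  have hT' : Ideal.map (f.stalkMap x).hom (IsLocalRing.maximalIdeal (Y.presheaf.stalk (f x))) ⊔
        IsLocalRing.maximalIdeal (X.presheaf.stalk x) ^ 2 =
      IsLocalRing.maximalIdeal (X.presheaf.stalk x) := hT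
  rw [e1, e2, Ideal.map_map, e3, ← Ideal.map_map, ← Ideal.map_pow, ← Ideal.map_sup] at hT'
  intro b hb
  have hb' : algebraMap Γ(X, f ⁻¹ᵁ V) (X.presheaf.stalk x) b ∈
      Ideal.map (algebraMap Γ(X, f ⁻¹ᵁ V) (X.presheaf.stalk x)) 𝔫 := Ideal.mem_map_of_mem _ hb
  rw [← hT'] at hb'
  obtain ⟨s, hs, hsb⟩ :=
    (IsLocalization.algebraMap_mem_map_algebraMap_iff 𝔫.primeCompl _ _ b).mp hb'
  exact ⟨s, hs, hsb⟩

end Groth.Agent.H5.CIcrit
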