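import Mathlib

set_option autoImplicit false
universe u

namespace Groth.Agent.H5.CIcrit

/-- local-to-global Nakayama: a finite algebra map which is surjective modulo every maximal ideal
is surjective. -/
theorem surjective_of_forall_maximal {A B : Type*} [CommRing A] [CommRing B] [Algebra A B]
    [Module.Finite A B]
    (h : ∀ (𝔪 : Ideal A), 𝔪.IsMaximal → ∀ b : B, ∃ a : A,
      b - algebraMap A B a ∈ 𝔪.map (algebraMap A B)) :
    Function.Surjective (algebraMap A B) := by
  let N : Submodule A B := LinearMap.range (Algebra.linearMap A B)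
  suffices hN : N = ⊤ by
    intro b
    have : b ∈ N := hN ▸ Submodule.mem_top
    obtain ⟨a, ha⟩ := this
    exact ⟨a, ha⟩
  -- the quotient module `Q = B ⧸ N`
  let Q := B ⧸ N
  have hQ : ∀ (𝔪 : Ideal A), 𝔪.IsMaximal → (⊤ : Submodule A Q) ≤ 𝔪 • (⊤ : Submodule A Q) := by
    intro 𝔪 h𝔪 q _
    obtain ⟨b, rfl⟩ := N.mkQ_surjective q
    obtain ⟨a, ha⟩ := h 𝔪 h𝔪 b
    have h1 : N.mkQ b = N.mkQ (b - algebraMap A B a) := by
      rw [map_sub, sub_eq_self.mpr]
      exact (Submodule.Quotient.mk_eq_zero N).mpr ⟨a, rfl⟩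
    rw [h1]
    have h2 : b - algebraMap A B a ∈ 𝔪 • (⊤ : Submodule A B) := by
      rw [Ideal.smul_top_eq_map]
      exact ha
    have h3 := Submodule.mem_map_of_mem (f := N.mkQ) h2
    rw [Submodule.map_smul'', Submodule.map_top, Submodule.range_mkQ] at h3
    exact h3
  have hann : (Module.annihilator A Q) = ⊤ := by
    by_contra hne
    obtain ⟨𝔪, h𝔪, hle⟩ := Ideal.exists_le_maximal _ hne
    obtain ⟨r, hr1, hr2⟩ := Submodule.exists_sub_one_mem_and_smul_eq_zero_of_fg_of_le_smul 𝔪
      (⊤ : Submodule A Q) Module.Finite.fg_top (hQ 𝔪 h𝔪)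
    have hr : r ∈ Module.annihilator A Q := by
      rw [Module.mem_annihilator]
      intro q
      exact hr2 q Submodule.mem_top
    have h1 : (1 : A) ∈ 𝔪 := by
      have := 𝔪.sub_mem (hle hr) hr1
      simpa using this
    exact h𝔪.ne_top ((Ideal.eq_top_iff_one _).mpr h1)
  have h1 : (1 : A) ∈ Module.annihilator A Q := hann ▸ Submodule.mem_top
  rw [Module.mem_annihilator] at h1
  rw [eq_top_iff]
  intro b _
  have := h1 (N.mkQ b)
  rw [one_smul] at this
  exact (Submodule.Quotient.mk_eq_zero N).mp this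

end Groth.Agent.H5.CIcrit
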