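import Mathlib

set_option autoImplicit false
universe u

namespace Groth.Agent.H5.CIcrit

theorem exists_sub_mem_map {k A B : Type*} [Field k] [IsAlgClosed k] [CommRing A] [CommRing B]
    [Algebra k A] [Algebra k B] [Algebra A B] [IsScalarTower k A B] [Algebra.FiniteType k B]
    (𝔪 : Ideal A) [h𝔪 : 𝔪.IsMaximal]
    (h1 : ∀ (𝔫₁ 𝔫₂ : Ideal B), 𝔫₁.IsPrime → 𝔫₂.IsPrime → 𝔫₁.comap (algebraMap A B) = 𝔪 →
      𝔫₂.comap (algebraMap A B) = 𝔪 → 𝔫₁ = 𝔫₂)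
    (h2 : ∀ (𝔫 : Ideal B), 𝔫.IsPrime → 𝔫.comap (algebraMap A B) = 𝔪 → ∀ b ∈ 𝔫, ∃ s ∉ 𝔫,
      s * b ∈ 𝔪.map (algebraMap A B) ⊔ 𝔫 ^ 2) (b : B) :
    ∃ a : A, b - algebraMap A B a ∈ 𝔪.map (algebraMap A B) := by
  set J := 𝔪.map (algebraMap A B) with hJ
  by_cases hJtop : J = ⊤
  · exact ⟨0, hJtop ▸ Submodule.mem_top⟩
  obtain ⟨𝔫, h𝔫max, hJ𝔫⟩ := Ideal.exists_le_maximal J hJtop
  have hcomap : ∀ 𝔭 : Ideal B, 𝔭.IsPrime → J ≤ 𝔭 → 𝔭.comap (algebraMap A B) = 𝔪 := by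
    intro 𝔭 h𝔭 hle
    have h3 : 𝔪 ≤ 𝔭.comap (algebraMap A B) := Ideal.map_le_iff_le_comap.mp hle
    have h4 : 𝔭.comap (algebraMap A B) ≠ ⊤ := (Ideal.comap_isPrime _ 𝔭).ne_top
    exact (h𝔪.eq_of_le h4 h3).symm
  have h𝔫c := hcomap 𝔫 h𝔫max.isPrime hJ𝔫
  haveI : IsNoetherianRing B := Algebra.FiniteType.isNoetherianRing k B
  -- the quotient ring
  let π := Ideal.Quotient.mk J
  have hπ : Function.Surjective π := Ideal.Quotient.mk_surjective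
  have hker : RingHom.ker π = J := Ideal.mk_ker
  set 𝔫' := 𝔫.map π with h𝔫'
  have hcm : (𝔫').comap π = 𝔫 := by
    rw [h𝔫', Ideal.comap_map_of_surjective π hπ, ← RingHom.ker_eq_comap_bot, hker]
    exact sup_eq_left.mpr hJ𝔫
  have h𝔫'max : 𝔫'.IsMaximal := by
    rcases Ideal.map_eq_top_or_isMaximal_of_surjective π hπ h𝔫max with h | h
    · exfalso
      have : 𝔫 = ⊤ := by rw [← hcm, h𝔫', h, Ideal.comap_top]
      exact h𝔫max.ne_top this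
    · exact h
  have huniq : ∀ M : Ideal (B ⧸ J), M.IsMaximal → M = 𝔫' := by
    intro M hM
    have hMc : (M.comap π).IsPrime := Ideal.comap_isPrime π M
    have hJM : J ≤ M.comap π := hker.symm.le.trans (Ideal.ker_le_comap π)
    have e1 := h1 (M.comap π) 𝔫 hMc h𝔫max.isPrime (hcomap _ hMc hJM) h𝔫c
    rw [← Ideal.map_comap_of_surjective π hπ M, e1]
  haveI : IsLocalRing (B ⧸ J) := IsLocalRing.of_unique_max_ideal ⟨𝔫', h𝔫'max, huniq⟩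
  have hmax : IsLocalRing.maximalIdeal (B ⧸ J) = 𝔫' := (IsLocalRing.eq_maximalIdeal h𝔫'max).symm
  have hsq : 𝔫' ≤ 𝔫' • 𝔫' := by
    intro c hc
    obtain ⟨b₀, hb₀, rfl⟩ := (Ideal.mem_map_iff_of_surjective π hπ).mp hc
    obtain ⟨s, hs, hsb⟩ := h2 𝔫 h𝔫max.isPrime h𝔫c b₀ hb₀
    have h3 : π (s * b₀) ∈ (J ⊔ 𝔫 ^ 2).map π := Ideal.mem_map_of_mem π hsb
    rw [Ideal.map_sup, Ideal.map_pow, ← h𝔫', (Ideal.map_eq_bot_iff_le_ker π).mpr hker.ge,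
      bot_sup_eq, map_mul] at h3
    have hsu : IsUnit (π s) := by
      by_contra hnu
      have h5 : π s ∈ IsLocalRing.maximalIdeal (B ⧸ J) := (IsLocalRing.mem_maximalIdeal _).mpr hnu
      rw [hmax] at h5
      have h6 : s ∈ 𝔫'.comap π := h5
      rw [hcm] at h6
      exact hs h6
    rw [smul_eq_mul, ← pow_two]
    exact (Ideal.unit_mul_mem_iff_mem _ hsu).mp h3
  have hbot : 𝔫' = ⊥ := by
    apply Submodule.eq_bot_of_le_smul_of_le_jacobson_bot 𝔫' 𝔫' (IsNoetherian.noetherian _) hsq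
    rw [← hmax]
    exact IsLocalRing.maximalIdeal_le_jacobson _
  have h𝔫J : 𝔫 = J := by
    apply le_antisymm _ hJ𝔫
    rw [← hcm, hbot, ← RingHom.ker_eq_comap_bot, hker]
  -- `B ⧸ 𝔫` is a finite extension of `k`
  letI : Field (B ⧸ 𝔫) := Ideal.Quotient.field 𝔫
  haveI : Algebra.FiniteType k (B ⧸ 𝔫) :=
    Algebra.FiniteType.of_surjective (Ideal.Quotient.mkₐ k 𝔫) (Ideal.Quotient.mkₐ_surjective k 𝔫)
  haveI : Module.Finite k (B ⧸ 𝔫) := finite_of_finite_type_of_isJacobsonRing k (B ⧸ 𝔫)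
  obtain ⟨c, hc⟩ := (IsAlgClosed.algebraMap_bijective_of_isIntegral (k := k) (K := B ⧸ 𝔫)).2
    (Ideal.Quotient.mk 𝔫 b)
  refine ⟨algebraMap k A c, ?_⟩
  rw [← h𝔫J, ← Ideal.Quotient.eq, ← IsScalarTower.algebraMap_apply k A B, ← hc]
  rfl

end Groth.Agent.H5.CIcrit
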