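import Mathlib

set_option autoImplicit false
universe u
open CategoryTheory AlgebraicGeometry TopologicalSpace

namespace Groth.Agent.H5.CIcrit

/-- a subsingleton set of closed points is closed. -/
theorem isClosed_of_subsingleton_of_subset_closedPoints {T : Type*} [TopologicalSpace T]
    {S : Set T} (hS : S.Subsingleton) (hcl : S ⊆ closedPoints T) : IsClosed S := by
  rcases hS.eq_empty_or_singleton with h | ⟨c, h⟩
  · rw [h]; exact isClosed_empty
  · rw [h]
    exact hcl (h ▸ Set.mem_singleton c)

/-- in a Jacobson space, a closed set with at most one closed point is a subsingleton. -/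
theorem subsingleton_of_closedPoints {T : Type*} [TopologicalSpace T] [JacobsonSpace T]
    {Z : Set T} (hZ : IsClosed Z) (h : (Z ∩ closedPoints T).Subsingleton) : Z.Subsingleton := by
  have h1 := closure_inter_closedPoints hZ
  have h2 : IsClosed (Z ∩ closedPoints T) :=
    isClosed_of_subsingleton_of_subset_closedPoints h Set.inter_subset_right
  rw [h2.closure_eq] at h1
  rw [← h1]
  exact h

variable {X Y : Scheme.{u}} (f : X ⟶ Y)

/-- fibres over closed points are subsingletons. -/
theorem fiber_subsingleton [JacobsonSpace X]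
    (hinj : Set.InjOn f.base {x : X | IsClosed ({x} : Set X)}) (y : Y)
    (hy : IsClosed ({y} : Set Y)) : (f ⁻¹' {y}).Subsingleton := by
  apply subsingleton_of_closedPoints (hy.preimage f.continuous)
  intro x₁ hx₁ x₂ hx₂
  apply hinj hx₁.2 hx₂.2
  exact hx₁.1.trans hx₂.1.symm

theorem quasiFiniteAt_of_closed [JacobsonSpace X] [LocallyOfFiniteType f] [UniversallyClosed f]
    (hinj : Set.InjOn f.base {x : X | IsClosed ({x} : Set X)}) (x : X)
    (hx : IsClosed ({x} : Set X)) : f.QuasiFiniteAt x := by
  rw [Scheme.Hom.quasiFiniteAt_iff_isOpen_singleton_asFiber]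
  have hy : IsClosed ({f x} : Set Y) := by
    have := f.isClosedMap _ hx
    rwa [Set.image_singleton] at this
  have hsub := fiber_subsingleton f hinj (f x) hy
  haveI : Subsingleton (f ⁻¹' {f x}) := (Set.subsingleton_coe _).mpr hsub
  haveI : Subsingleton (f.fiber (f x)) := (f.fiberHomeo (f x)).toEquiv.subsingleton
  exact isOpen_discrete _

theorem isFinite_of_injOn [JacobsonSpace X] [IsProper f]
    (hinj : Set.InjOn f.base {x : X | IsClosed ({x} : Set X)}) : IsFinite f := by
  have htop : f.quasiFiniteLocus = ⊤ := by
    by_contra hne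
    have hne' : ((f.quasiFiniteLocus : Set X)ᶜ).Nonempty := by
      rw [Set.nonempty_compl]
      intro h
      exact hne (Opens.ext h)
    obtain ⟨x, hx1, hx2⟩ := nonempty_inter_closedPoints hne'
      f.quasiFiniteLocus.2.isClosed_compl.isLocallyClosed
    exact hx1 (quasiFiniteAt_of_closed f hinj x hx2)
  haveI : LocallyQuasiFinite f := (Scheme.Hom.quasiFiniteLocus_eq_top_iff f).mp htop
  exact IsFinite.of_isProper_of_locallyQuasiFinite f

end Groth.Agent.H5.CIcrit
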