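import Mathlib
import Groth.Agent.Lib.Helper5.CIcrit.A
import Groth.Agent.Lib.Helper5.CIcrit.B
import Groth.Agent.Lib.Helper5.CIcrit.C
import Groth.Agent.Lib.Helper5.CIcrit.D

set_option autoImplicit false
universe u
open CategoryTheory AlgebraicGeometry TopologicalSpace

namespace Groth.Agent.H5.CIcrit

variable {X Y : Scheme.{u}} (f : X ⟶ Y)

theorem app_surjective (k : Type u) [Field k] [IsAlgClosed k] (q : Y ⟶ Spec (CommRingCat.of k))
    [LocallyOfFiniteType q] [IsFinite f] [JacobsonSpace X] [JacobsonSpace Y]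
    (hinj : Set.InjOn f.base {x : X | IsClosed ({x} : Set X)})
    (hT : ∀ x : X, IsClosed ({x} : Set X) →
      Ideal.map (f.stalkMap x).hom (IsLocalRing.maximalIdeal (Y.presheaf.stalk (f.base x))) ⊔
        IsLocalRing.maximalIdeal (X.presheaf.stalk x) ^ 2 =
        IsLocalRing.maximalIdeal (X.presheaf.stalk x))
    (V : Y.Opens) (hV : IsAffineOpen V) : Function.Surjective (f.app V) := by
  have hU : IsAffineOpen (f ⁻¹ᵁ V) := hV.preimage f
  letI : Algebra Γ(Y, V) Γ(X, f ⁻¹ᵁ V) := (f.app V).hom.toAlgebra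
  haveI : Module.Finite Γ(Y, V) Γ(X, f ⁻¹ᵁ V) := f.finite_app V hV
  let ψ : k →+* Γ(Y, V) :=
    (q.appLE ⊤ V le_top).hom.comp (Scheme.ΓSpecIso (CommRingCat.of k)).inv.hom
  letI : Algebra k Γ(Y, V) := ψ.toAlgebra
  haveI : Algebra.FiniteType k Γ(Y, V) := by
    have h1 : (q.appLE ⊤ V le_top).hom.FiniteType :=
      HasRingHomProperty.appLE (P := @LocallyOfFiniteType) q inferInstance
        ⟨⊤, isAffineOpen_top _⟩ ⟨V, hV⟩ le_top
    have h2 : ψ.FiniteType := by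
      refine RingHom.FiniteType.comp h1 ?_
      apply RingHom.FiniteType.of_surjective
      exact (ConcreteCategory.bijective_of_isIso (Scheme.ΓSpecIso (CommRingCat.of k)).inv).2
    exact h2
  letI : Algebra k Γ(X, f ⁻¹ᵁ V) :=
    ((algebraMap Γ(Y, V) Γ(X, f ⁻¹ᵁ V)).comp (algebraMap k Γ(Y, V))).toAlgebra
  haveI : IsScalarTower k Γ(Y, V) Γ(X, f ⁻¹ᵁ V) := IsScalarTower.of_algebraMap_eq (fun _ => rfl)
  haveI : Algebra.FiniteType k Γ(X, f ⁻¹ᵁ V) :=
    Algebra.FiniteType.trans (inferInstance : Algebra.FiniteType k Γ(Y, V)) inferInstance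
  change Function.Surjective (algebraMap Γ(Y, V) Γ(X, f ⁻¹ᵁ V))
  apply surjective_of_forall_maximal
  intro 𝔪 h𝔪 b
  -- comap of the prime of a point
  have hcm : ∀ (x : X) (hx : x ∈ f ⁻¹ᵁ V),
      (hU.primeIdealOf ⟨x, hx⟩).asIdeal.comap (algebraMap Γ(Y, V) Γ(X, f ⁻¹ᵁ V)) =
        (hV.primeIdealOf ⟨f x, hx⟩).asIdeal := by
    intro x hx
    have := IsAffineOpen.comap_primeIdealOf_appLE (f := f) V hV (f ⁻¹ᵁ V) hU le_rfl hx
    rw [← Scheme.Hom.app_eq_appLE] at this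
    exact congrArg PrimeSpectrum.asIdeal this
  have hclosedY : ∀ (x : X) (hx : x ∈ f ⁻¹ᵁ V),
      (hU.primeIdealOf ⟨x, hx⟩).asIdeal.comap (algebraMap Γ(Y, V) Γ(X, f ⁻¹ᵁ V)) = 𝔪 →
        IsClosed ({f x} : Set Y) := by
    intro x hx hc
    apply isClosed_of_isMaximal_primeIdealOf hV (f x) hx
    rw [← hcm x hx, hc]
    exact h𝔪
  refine exists_sub_mem_map (k := k) 𝔪 ?_ ?_ b
  · intro 𝔫₁ 𝔫₂ h₁ h₂ hc₁ hc₂
    obtain ⟨x₁, hx₁, e₁⟩ := exists_primeIdealOf_eq hU ⟨𝔫₁, h₁⟩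
    obtain ⟨x₂, hx₂, e₂⟩ := exists_primeIdealOf_eq hU ⟨𝔫₂, h₂⟩
    have a₁ : (hU.primeIdealOf ⟨x₁, hx₁⟩).asIdeal = 𝔫₁ := congrArg PrimeSpectrum.asIdeal e₁
    have a₂ : (hU.primeIdealOf ⟨x₂, hx₂⟩).asIdeal = 𝔫₂ := congrArg PrimeSpectrum.asIdeal e₂
    have hy₁ : IsClosed ({f x₁} : Set Y) := hclosedY x₁ hx₁ (a₁ ▸ hc₁)
    have hff : f x₁ = f x₂ := by
      have p₁ := hcm x₁ hx₁
      have p₂ := hcm x₂ hx₂
      rw [a₁, hc₁] at p₁
      rw [a₂, hc₂] at p₂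
      have : hV.primeIdealOf ⟨f x₁, hx₁⟩ = hV.primeIdealOf ⟨f x₂, hx₂⟩ :=
        PrimeSpectrum.ext (p₁.symm.trans p₂)
      have h3 := congrArg (fun p => hV.fromSpec p) this
      simp only [hV.fromSpec_primeIdealOf] at h3
      exact h3
    have hsub := fiber_subsingleton f hinj (f x₁) hy₁
    have hx : x₁ = x₂ := hsub (rfl : f x₁ = f x₁) hff.symm
    subst hx
    exact a₁.symm.trans a₂
  · intro 𝔫 h𝔫 hc bb hbb
    obtain ⟨x, hx, e⟩ := exists_primeIdealOf_eq hU ⟨𝔫, h𝔫⟩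
    have a : (hU.primeIdealOf ⟨x, hx⟩).asIdeal = 𝔫 := congrArg PrimeSpectrum.asIdeal e
    have hy : IsClosed ({f x} : Set Y) := hclosedY x hx (a ▸ hc)
    have hsub := fiber_subsingleton f hinj (f x) hy
    have hxcl : IsClosed ({x} : Set X) := by
      have h1 : f ⁻¹' {f x} = {x} := by
        apply Set.Subset.antisymm
        · intro z hz
          exact hsub hz (rfl : f x = f x)
        · rintro z rfl
          rfl
      rw [← h1]
      exact hy.preimage f.continuous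
    have key := exists_mul_mem_of_cotangent f hV hU x hx (hT x hxcl)
    have hm : (hV.primeIdealOf ⟨f x, hx⟩).asIdeal = 𝔪 := by rw [← hcm x hx, a, hc]
    rw [a, hm] at key
    exact key bb hbb

end Groth.Agent.H5.CIcrit
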